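import Groth.Agent.EtMemRange.Leray
import Groth.Agent.EtFinCrit.Acyclic
import Groth.Agent.EtOpenBC.Fwd
import Groth.Agent.EtStrictLoc.RelSys

/-!
Cohomology classes vanishing on all geometric fibres come from the base.
-/

set_option autoImplicit false
set_option backward.isDefEq.respectTransparency false
set_option backward.isDefEq.respectTransparency.types false
set_option linter.unusedSectionVars false
set_option linter.auxLemma false
set_option linter.overlappingInstances false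
set_option linter.style.haveILetI false
set_option maxHeartbeats 1000000

universe u

open CategoryTheory CategoryTheory.Limits CategoryTheory.Abelian AlgebraicGeometry Opposite IsLocalRing

noncomputable section

namespace Groth.Agent.EtMemRange

attribute [local instance 100000] EtCoh.H._proof_1 Groth.Agent.EtMV.hext
attribute [local instance 200000] Groth.Agent.EtMV.hextAb
attribute [local instance 300000] CategoryTheory.Preadditive.preadditiveHasZeroMorphisms
  CategoryTheory.Abelian.toPreadditive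

open EtAcycX (Θ Θ_natural geomFibres_of_isPullback AlgResidue algResidue_of_lqf algResidue_of_universallyInjective
  onStrict_of_weaklyEtale compN_of_zdim zdim_of_weaklyEtale weaklyEtale_specOf ZDim isField_SH)
open EtLimit (fstE ψh)
open EtStrictLoc (xp xCone isLimitXCone relDatum xDiag baseDatum_cocycle baseDatum_isColim)

/-- vanishing after two restrictions -/
theorem Hpull_eq_zero_iff {A B S : Scheme.{u}} (f : A ⟶ B) (t : B ⟶ S) (f₀ : A ⟶ S) (w : f ≫ t = f₀)
    [PreservesFiniteLimits (EtCoh.pull f)] [PreservesFiniteLimits (EtCoh.pull t)]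
    [PreservesFiniteLimits (EtCoh.pull f₀)] (G : EtCoh.Ab S) (q : ℕ) (x : EtCoh.H S G q) :
    EtCore.Hpull f ((EtCoh.pull t).obj G) q (EtCore.Hpull t G q x) = 0 ↔ EtCore.Hpull f₀ G q x = 0 := by
  haveI := EtAcycX.isIso_ψh f t f₀ w G
  rw [← EtAcycX.Hpull_HpullVia f t f₀ w G q x, EtAcycX.HpullVia_eq]
  refine ⟨fun h => by rw [h, Ext.zero_comp], fun h => ?_⟩
  refine (EtAcycX.bijective_comp_iso (ψh f t f₀ w G) q).1 ?_
  show Ext.comp _ _ _ = Ext.comp 0 _ _
  rw [h, Ext.zero_comp]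

theorem Hpull_comp_eq_zero {A B S : Scheme.{u}} (f : A ⟶ B) (t : B ⟶ S) (f₀ : A ⟶ S) (w : f ≫ t = f₀)
    [PreservesFiniteLimits (EtCoh.pull t)] [PreservesFiniteLimits (EtCoh.pull f₀)]
    (G : EtCoh.Ab S) (q : ℕ) (x : EtCoh.H S G q) (h : EtCore.Hpull t G q x = 0) :
    EtCore.Hpull f₀ G q x = 0 := by
  haveI := EtCohDesc.pull_preservesFiniteLimits f
  refine (Hpull_eq_zero_iff f t f₀ w G q x).1 ?_
  rw [h, map_zero]

section Square

variable {W T Z S : Scheme.{u}} (a : W ⟶ T) (g : T ⟶ S) (b : W ⟶ Z) (p : Z ⟶ S) (w : b ≫ p = a ≫ g)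
  (F : EtCoh.Ab S) (n : ℕ) [PreservesFiniteLimits (EtCoh.pull a)]

/-- a class moved to the other side of a square -/
def tr (ξ : EtCoh.H T ((EtCoh.pull g).obj F) n) : EtCoh.H W ((EtCoh.pull b).obj ((EtCoh.pull p).obj F)) n :=
  haveI := EtAcycX.isIso_ψh b p (a ≫ g) w F
  Ext.comp (EtCore.Hpull a ((EtCoh.pull g).obj F) n ξ)
    (Ext.mk₀ (ψh a g (a ≫ g) rfl F ≫ inv (ψh b p (a ≫ g) w F))) (add_zero n)

theorem HpullVia_of_Hpull_eq_tr [PreservesFiniteLimits (EtCoh.pull b)] (ξ : EtCoh.H T ((EtCoh.pull g).obj F) n)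
    (y : EtCoh.H Z ((EtCoh.pull p).obj F) n) (h : EtCore.Hpull b ((EtCoh.pull p).obj F) n y = tr a g b p w F n ξ) :
    EtCore.HpullVia b p (a ≫ g) w F n y = EtCore.HpullVia a g (a ≫ g) rfl F n ξ := by
  haveI := EtAcycX.isIso_ψh b p (a ≫ g) w F
  rw [EtAcycX.HpullVia_eq, EtAcycX.HpullVia_eq, h, tr, Ext.comp_assoc_of_second_deg_zero, Ext.mk₀_comp_mk₀,
    Category.assoc, IsIso.inv_hom_id, Category.comp_id]

theorem Hpull_tr_eq_zero_iff {V : Scheme.{u}} (f : V ⟶ W) (k : V ⟶ T) (hk : f ≫ a = k)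
    [PreservesFiniteLimits (EtCoh.pull f)] [PreservesFiniteLimits (EtCoh.pull k)]
    [PreservesFiniteLimits (EtCoh.pull g)]
    (ξ : EtCoh.H T ((EtCoh.pull g).obj F) n) :
    EtCore.Hpull f _ n (tr a g b p w F n ξ) = 0 ↔ EtCore.Hpull k ((EtCoh.pull g).obj F) n ξ = 0 := by
  haveI := EtAcycX.isIso_ψh b p (a ≫ g) w F
  haveI := EtAcycX.isIso_ψh a g (a ≫ g) rfl F
  haveI : IsIso (ψh a g (a ≫ g) rfl F ≫ inv (ψh b p (a ≫ g) w F)) := inferInstance
  haveI : IsIso ((EtCoh.pull f).map (ψh a g (a ≫ g) rfl F ≫ inv (ψh b p (a ≫ g) w F))) := inferInstance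
  rw [← Hpull_eq_zero_iff f a k hk, tr, EtAcycX.Hpull_comp_mk₀]
  refine ⟨fun h => ?_, fun h => by rw [h, Ext.zero_comp]⟩
  refine (EtAcycX.bijective_comp_iso ((EtCoh.pull f).map (ψh a g (a ≫ g) rfl F ≫ inv (ψh b p (a ≫ g) w F))) n).1 ?_
  show Ext.comp _ _ _ = Ext.comp 0 _ _
  rw [h, Ext.zero_comp]

end Square

/-- vanishing on all geometric fibres -/
def FibreVanish {T S : Scheme.{u}} (g : T ⟶ S) {G : EtCoh.Ab T} {n : ℕ} (ξ : EtCoh.H T G n) : Prop :=
  ∀ (y : S) (Ω : Type u) [Field Ω] [IsSepClosed Ω] [Algebra (S.residueField y) Ω]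
    [Algebra.IsAlgebraic (S.residueField y) Ω]
    [PreservesFiniteLimits (EtCoh.pull (pullback.fst g (EtAcyc.geomPt S y Ω)))],
    EtCore.Hpull (pullback.fst g (EtAcyc.geomPt S y Ω)) G n ξ = 0

theorem fibreVanish_tr {W T Z S : Scheme.{u}} (a : W ⟶ T) (g : T ⟶ S) (b : W ⟶ Z) (p : Z ⟶ S)
    (w : b ≫ p = a ≫ g) (halg : AlgResidue p) (F : EtCoh.Ab S) (n : ℕ) [PreservesFiniteLimits (EtCoh.pull a)]
    [PreservesFiniteLimits (EtCoh.pull g)]
    (ξ : EtCoh.H T ((EtCoh.pull g).obj F) n) (hξ : FibreVanish g ξ) :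
    FibreVanish b (tr a g b p w F n ξ) := by
  intro z Ω _ _ _ _ _
  letI algY : Algebra (S.residueField (p z)) Ω :=
    ((algebraMap (Z.residueField z) Ω).comp (p.residueFieldMap z).hom).toAlgebra
  haveI : Algebra.IsAlgebraic (S.residueField (p z)) Ω := by
    letI := (p.residueFieldMap z).hom.toAlgebra
    haveI : IsScalarTower (S.residueField (p z)) (Z.residueField z) Ω := IsScalarTower.of_algebraMap_eq' rfl
    haveI : Algebra.IsIntegral (S.residueField (p z)) (Z.residueField z) := ⟨halg z⟩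
    exact Algebra.IsAlgebraic.trans (S.residueField (p z)) (Z.residueField z) Ω
  have hγ : EtAcyc.geomPt Z z Ω ≫ p = EtAcyc.geomPt S (p z) Ω := by
    show (Spec.map (CommRingCat.ofHom (algebraMap (Z.residueField z) Ω)) ≫ Z.fromSpecResidueField z) ≫ p = _
    rw [Category.assoc, ← p.SpecMap_residueFieldMap_fromSpecResidueField, ← Category.assoc, ← Spec.map_comp]
    rfl
  let f := pullback.fst b (EtAcyc.geomPt Z z Ω)
  let θ : pullback b (EtAcyc.geomPt Z z Ω) ⟶ pullback g (EtAcyc.geomPt S (p z) Ω) :=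
    pullback.lift (f ≫ a) (pullback.snd _ _) (by
      rw [Category.assoc, ← w, ← Category.assoc, pullback.condition, Category.assoc, hγ])
  haveI := EtCohDesc.pull_preservesFiniteLimits (f ≫ a)
  haveI := EtCohDesc.pull_preservesFiniteLimits (pullback.fst g (EtAcyc.geomPt S (p z) Ω))
  exact (Hpull_tr_eq_zero_iff a g b p w F n f (f ≫ a) rfl ξ).2
    (Hpull_comp_eq_zero θ (pullback.fst g (EtAcyc.geomPt S (p z) Ω)) (f ≫ a) (pullback.lift_fst _ _ _) _ n ξ
      (hξ (p z) Ω))

theorem unit_and_rpush {T S : Scheme.{u}} (g : T ⟶ S) [PreservesFiniteLimits (EtCoh.pull g)] {L : Set ℕ} {n : ℕ}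
    (hc : ∀ W : S.Etale, IsAffine W.left → EtAcyc.CompN (fstE g W) L n)
    (F : EtCoh.Ab S) (hF : EtAcyc.IsLTorsion L F) :
    IsIso ((EtCoh.pullPushAdj g).unit.app F) ∧
      ∀ q : ℕ, q < n → IsZero ((EtCoh.Rpush g (q + 1)).obj ((EtCoh.pull g).obj F)) := by
  have hΘ : ∀ W : S.Etale, IsAffine W.left → ∀ k : ℕ, k ≤ n → Function.Bijective (Θ g W F k) := fun W hW =>
    (EtAcycX.Θ_bijective_of_compN g W (hc W hW) F hF).1
  refine ⟨EtAcycX.isIso_unit_of_Θ_affine g F fun W hW => hΘ W hW 0 (Nat.zero_le n), fun q hq => ?_⟩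
  refine EtAcycX.isZero_rpush_of_locZero g n _ (fun k hk W x w => ?_) q hq
  obtain ⟨W₁, a₁, hW₁, w₁, hw₁⟩ := EtColimH.exists_affine_nhd W w
  obtain ⟨x', hx'⟩ := (hΘ W₁ hW₁ (k + 1) hk).2
    ((Ext.mk₀ ((EtMV.P T).map ((EtCoh.bc g).map a₁))).comp x (zero_add (k + 1)))
  obtain ⟨W', a, ⟨w', hw'⟩, ha⟩ := EtAcycX.locZero_all k F W₁ x' w₁
  refine ⟨W', a ≫ a₁, ⟨w', ?_⟩, ?_⟩
  · show (a.left ≫ a₁.left) w' = w
    rw [Scheme.Hom.comp_apply, hw', hw₁]
  · rw [Functor.map_comp, Functor.map_comp, ← Ext.mk₀_comp_mk₀_assoc, ← hx', Θ_natural, ha, map_zero]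

/-- classes vanishing on the geometric fibres over a zero dimensional base are killed locally on it -/
theorem exists_kill_zdim {W Z : Scheme.{u}} (hZ : ZDim Z) (b : W ⟶ Z) [QuasiCompact b] [QuasiSeparated b]
    (G : EtCoh.Ab W) (n : ℕ) (ξ : EtCoh.H W G n) (hξ : FibreVanish b ξ) (z : Z) :
    ∃ (V : Z.Etale) (v : V.left), V.hom v = z ∧
      ∀ [PreservesFiniteLimits (EtCoh.pull ((EtCoh.bc b).obj V).hom)],
        EtCore.Hpull ((EtCoh.bc b).obj V).hom G n ξ = 0 := by
  let Q := EtBCQ.mkSH Z z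
  letI : Field Q.R := (isField_SH hZ Q).toField
  let A := Z.presheaf.stalk z
  letI alg : Algebra (Z.residueField z) (ResidueField Q.R) :=
    inferInstanceAs (Algebra (ResidueField A) (ResidueField Q.R))
  haveI : Algebra.IsAlgebraic (Z.residueField z) (ResidueField Q.R) := by
    haveI : Algebra.IsSeparable (ResidueField A) (ResidueField Q.R) := Q.sh.isSepClosure.2
    exact (inferInstance : Algebra.IsAlgebraic (ResidueField A) (ResidueField Q.R))
  have hgeo : EtAcyc.geomPt Z z (ResidueField Q.R) = EtHens.pt Q.R ≫ Q.spec := by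
    show Spec.map (CommRingCat.ofHom (algebraMap (Z.residueField z) (ResidueField Q.R))) ≫ Spec.map (Z.residue z) ≫
      Z.fromSpecStalk z = EtHens.pt Q.R ≫ Spec.map (CommRingCat.ofHom (algebraMap A Q.R)) ≫ Z.fromSpecStalk z
    rw [← Category.assoc, ← Category.assoc (EtHens.pt Q.R), ← Spec.map_comp, ← Spec.map_comp]
    rfl
  haveI : IsIso (EtHens.pt Q.R) := by
    have hb : Function.Bijective (residue Q.R) := ⟨(residue Q.R).injective, residue_surjective⟩
    haveI : IsIso (CommRingCat.ofHom (residue Q.R)) := (ConcreteCategory.isIso_iff_bijective _).2 hb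
    infer_instance
  let θ : pullback b Q.spec ⟶ pullback b (EtAcyc.geomPt Z z (ResidueField Q.R)) :=
    pullback.lift (pullback.fst _ _) (pullback.snd _ _ ≫ inv (EtHens.pt Q.R))
      (by rw [hgeo, Category.assoc, IsIso.inv_hom_id_assoc, pullback.condition])
  haveI := EtCohDesc.pull_preservesFiniteLimits (pullback.fst b Q.spec)
  haveI := EtCohDesc.pull_preservesFiniteLimits (pullback.fst b (EtAcyc.geomPt Z z (ResidueField Q.R)))
  have h0 : EtCore.Hpull (pullback.fst b Q.spec) G n ξ = 0 :=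
    Hpull_comp_eq_zero θ _ _ (pullback.lift_fst _ _ _) G n ξ (hξ z (ResidueField Q.R))
  haveI : Nonempty (EtStrictLoc.Idx Z z Q.R) := IsCofiltered.nonempty
  let j : EtStrictLoc.Idx Z z Q.R := Classical.arbitrary _
  haveI := EtCohDesc.pull_preservesFiniteLimits (xp b z Q.R j)
  haveI : ∀ {k l : EtStrictLoc.Idx Z z Q.R} (f : k ⟶ l), PreservesFiniteLimits (EtCoh.pull ((xDiag b z Q.R).map f)) :=
    fun f => EtCohDesc.pull_preservesFiniteLimits _
  haveI := EtCohDesc.pull_preservesFiniteLimits (EtLimit.uπ (xCone b z Q.R) j)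
  obtain ⟨k, a, hk⟩ := EtLimit.isColim_inj (S := relDatum b z Q.R G) (isLimitXCone b z Q.R)
    (baseDatum_cocycle _ _ _ _ _ G) (baseDatum_isColim _ _ _ _ _ G) n j (EtCore.Hpull (xp b z Q.R j) G n ξ)
    ((EtLimit.HpullVia_eq _ _ _ (EtStrictLoc.xπ_snd b z Q.R j) G n _).symm.trans
      ((EtAcycX.Hpull_HpullVia _ _ _ (EtStrictLoc.xπ_snd b z Q.R j) G n ξ).trans h0))
  refine ⟨k.nhd.et, k.nhd.sec (closedPoint Q.R), ?_, ?_⟩
  · exact ((Scheme.Hom.comp_apply _ _ _).symm.trans
      (congrArg (fun f => f (closedPoint Q.R)) k.nhd.sec_w)).trans Q.spec_closed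
  intro _
  exact ((EtAcycX.Hpull_HpullVia _ _ _ (EtStrictLoc.xp_w b z Q.R a) G n ξ).symm.trans
    (EtLimit.HpullVia_eq _ _ _ (EtStrictLoc.xp_w b z Q.R a) G n _)).trans hk

section Affine

variable {T S : Scheme.{u}} [IsAffine S] (g : T ⟶ S) [QuasiCompact g] [QuasiSeparated g]

/-- the criterion over an affine base -/
theorem mem_range_affine [PreservesFiniteLimits (EtCoh.pull g)] {L : Set ℕ} {n : ℕ}
    (hfib : EtAcyc.GeomFibresAcyclicN L n g)
    (hloc : EtAcyc.OnStrictLocalizations g (fun _ _ h => EtAcyc.GeomFibresAcyclicN L n h))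
    (hh : EtAcyc.CompN g L n) {F : EtCoh.Ab S} (hF : EtAcyc.IsLTorsion L F)
    (ξ : EtCoh.H T ((EtCoh.pull g).obj F) (n + 1)) (hξ : FibreVanish g ξ) :
    ξ ∈ Set.range (EtCore.Hpull g F (n + 1)) := by
  obtain ⟨Z, p, hZa, hZ, hsurj, hui⟩ := EtAcycX.exists_zdim_cover S
  haveI := hZa
  haveI := hsurj
  haveI := hui
  let hb := pullback.snd g p
  let pY := pullback.fst g p
  have c : IsPullback hb pY p g := (IsPullback.of_hasPullback g p).flip
  haveI := EtCohDesc.pull_preservesFiniteLimits p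
  haveI := EtCohDesc.pull_preservesFiniteLimits hb
  haveI := EtCohDesc.pull_preservesFiniteLimits pY
  have hfb : EtAcyc.GeomFibresAcyclicN L n hb :=
    geomFibres_of_isPullback c.flip (algResidue_of_universallyInjective p) hfib
  have hm : ∀ l : EtBCQ.Loc g p pY hb, EtAcyc.CompN l.m L n := fun l => by
    have hP : EtAcyc.GeomFibresAcyclicN L n (Spec.map (CommRingCat.ofHom l.ρ)) :=
      EtAcycX.apply_onStrict' hloc (x := l.x) (y := g.base l.x) rfl
        ({ R := l.RS } : EtBCQ.SH S (g.base l.x)) ({ R := l.RX } : EtBCQ.SH T l.x) l.ρ l.hρ.symm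
    haveI : WeaklyEtale (Hens2.specOf S (g.base l.x) l.RS) := weaklyEtale_specOf (g.base l.x) l.RS
    haveI : WeaklyEtale l.aS := MorphismProperty.of_isPullback (P := @WeaklyEtale) l.HS.flip ‹_›
    haveI : IsAffineHom l.bS := MorphismProperty.of_isPullback (P := @IsAffineHom) l.HS (inferInstance : IsAffineHom p)
    haveI : UniversallyInjective l.bS := MorphismProperty.of_isPullback (P := @UniversallyInjective) l.HS hui
    haveI : IsAffine l.PS := isAffine_of_isAffineHom l.bS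
    have sqm : IsPullback l.m l.bX l.bS (Spec.map (CommRingCat.ofHom l.ρ)) := by
      have hbig : IsPullback (l.m ≫ l.aS) l.bX p
          (Spec.map (CommRingCat.ofHom l.ρ) ≫ Hens2.specOf S (g.base l.x) l.RS) := by
        rw [l.wm, ← l.hρ]
        exact l.HX.flip.paste_vert c.flip |>.flip
      exact IsPullback.of_right hbig l.wb l.HS
    haveI : QuasiCompact l.m := MorphismProperty.of_isPullback (P := @QuasiCompact) sqm.flip inferInstance
    haveI : QuasiSeparated l.m := MorphismProperty.of_isPullback (P := @QuasiSeparated) sqm.flip inferInstance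
    exact compN_of_zdim (zdim_of_weaklyEtale l.aS hZ) l.m
      (geomFibres_of_isPullback sqm.flip (algResidue_of_universallyInjective l.bS) hP)
  have hbc : ∀ F : EtCoh.Ab Z, EtAcyc.IsLTorsion L F → EtAcycX.BCN g p hb pY c.w n F := fun F hF =>
    ⟨fun q hq => EtOpenBC.isIso_bcQ_of_loc c.w c F q fun l =>
      EtAcycX.bijective_HpullVia_of_compN l.m l.aS _ l.wm (hm l) hF hq,
    EtOpenBC.mono_bcQ_of_loc c.w c F (n + 1) fun l =>
      EtOpenBC.injective_HpullVia_of_compN l.m l.aS _ l.wm (hm l) hF⟩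
  have hcW : ∀ W : Z.Etale, IsAffine W.left → EtAcyc.CompN (fstE hb W) L n := by
    intro W hW
    haveI := hW
    haveI : CompactSpace ((𝟭 Scheme).obj W.left) := inferInstanceAs (CompactSpace W.left)
    haveI : QuasiSeparatedSpace ((𝟭 Scheme).obj W.left) := inferInstanceAs (QuasiSeparatedSpace W.left)
    haveI : Etale W.hom := W.prop
    haveI : QuasiCompact (fstE hb W) := MorphismProperty.pullback_fst _ _ inferInstance
    haveI : QuasiSeparated (fstE hb W) := MorphismProperty.pullback_fst _ _ inferInstance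
    exact compN_of_zdim (zdim_of_weaklyEtale W.hom hZ) (fstE hb W)
      (geomFibres_of_isPullback (IsPullback.of_hasPullback W.hom hb).flip
        (haveI := EtMV.lqf_of_etale W.hom; algResidue_of_lqf W.hom) hfb)
  obtain ⟨hu, hR⟩ := unit_and_rpush hb hcW _ (EtAcycX.isLTorsion_pull p hF)
  haveI := hu
  have hv := fibreVanish_tr pY g hb p c.w (algResidue_of_universallyInjective p) F (n + 1) ξ hξ
  obtain ⟨y, hy⟩ := mem_range_Hpull hb ((EtCoh.pull p).obj F) n hR (tr pY g hb p c.w F (n + 1) ξ)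
    fun z => exists_kill_zdim hZ hb _ (n + 1) _ hv z
  exact (EtAcycX.mem_range_iff g p hb pY c.w hh hbc hF ξ).2 ⟨y, HpullVia_of_Hpull_eq_tr pY g hb p c.w F (n + 1) ξ y hy⟩

end Affine

theorem mem_range_iff_vanish {X Y : Scheme.{u}} (g : X ⟶ Y) [QuasiCompact g] [QuasiSeparated g] (L : Set ℕ)
    (hL : ∃ ℓ ∈ L, ℓ.Prime) (n : ℕ) (hglob : EtAcyc.IsAcyclicN g L n) (hloc : EtAcyc.IsLocAcyclicN g L n)
    [PreservesFiniteLimits (EtCoh.pull g)] (F : EtCoh.Ab Y) (hF : EtAcyc.IsLTorsion L F)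
    (ξ : EtCoh.H X ((EtCoh.pull g).obj F) (n + 1)) :
    ξ ∈ Set.range (EtCore.Hpull g F (n + 1)) ↔ FibreVanish g ξ := by
  constructor
  · rintro ⟨x, rfl⟩ y Ω _ _ _ _ _
    let γ := EtAcyc.geomPt Y y Ω
    haveI := EtCohDesc.pull_preservesFiniteLimits (pullback.fst g γ ≫ g)
    haveI := EtCohDesc.pull_preservesFiniteLimits γ
    haveI : IsSepClosed (ResidueField Ω) :=
      Hensel.isSepClosed_of_ringEquiv (RingEquiv.ofBijective (residue Ω) ⟨(residue Ω).injective, residue_surjective⟩)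
    haveI : Subsingleton (EtCoh.H _ ((EtCoh.pull γ).obj F) (n + 1)) := EtAcycX.subsingleton_H_henselian Ω _ n
    exact (Hpull_eq_zero_iff _ g _ rfl F (n + 1) x).2
      (Hpull_comp_eq_zero (pullback.snd g γ) γ _ pullback.condition.symm F (n + 1) x (Subsingleton.elim _ _))
  intro hξ
  obtain ⟨hu, hR⟩ := unit_and_rpush g (fun W _ => hglob W) F hF
  haveI := hu
  refine mem_range_Hpull g F n hR ξ fun y => ?_
  obtain ⟨V, a, hV, v, hv⟩ := EtColimH.exists_affine_nhd (EtCoh.top Y) y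
  haveI := hV
  haveI : Etale V.hom := V.prop
  let gV := fstE g V
  let aV := pullback.snd V.hom g
  haveI : QuasiCompact gV := MorphismProperty.pullback_fst _ _ inferInstance
  haveI : QuasiSeparated gV := MorphismProperty.pullback_fst _ _ inferInstance
  haveI : Etale aV := MorphismProperty.pullback_snd _ _ inferInstance
  have sq : IsPullback aV gV g V.hom := (IsPullback.of_hasPullback V.hom g).flip
  haveI := EtCohDesc.pull_preservesFiniteLimits gV
  haveI := EtCohDesc.pull_preservesFiniteLimits aV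
  haveI := EtCohDesc.pull_preservesFiniteLimits V.hom
  have halg : AlgResidue V.hom := haveI := EtMV.lqf_of_etale V.hom; algResidue_of_lqf V.hom
  obtain ⟨x, hx⟩ := mem_range_affine gV (geomFibres_of_isPullback sq halg (EtAcycX.geomFibresAcyclicN g L hL n hglob))
    (onStrict_of_weaklyEtale aV V.hom sq.w (EtAcycX.onStrict_fibres_of_isLocAcyclicN g hL hloc)) (hglob V)
    (EtAcycX.isLTorsion_pull V.hom hF) (tr aV g gV V.hom sq.w.symm F (n + 1) ξ)
    (fibreVanish_tr aV g gV V.hom sq.w.symm halg F (n + 1) ξ hξ)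
  obtain ⟨o, v', hv', hk⟩ := exists_Hpull_eq_zero _ n x v
  haveI := EtCohDesc.pull_preservesFiniteLimits o.hom
  haveI : Etale o.hom := o.prop
  let V' : Y.Etale := EtAcycX.compEt V o
  refine ⟨V', v', ?_, ?_⟩
  · show (o.hom ≫ V.hom) v' = y
    rw [Scheme.Hom.comp_apply, hv', ← hv, ← MorphismProperty.Over.w a]
    rfl
  intro _
  let k : ((EtCoh.bc g).obj V').left ⟶ pullback V.hom g :=
    pullback.lift (pullback.fst V'.hom g ≫ o.hom) (pullback.snd V'.hom g)
      (by rw [Category.assoc]; exact pullback.condition)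
  haveI := EtCohDesc.pull_preservesFiniteLimits k
  haveI := EtCohDesc.pull_preservesFiniteLimits (pullback.fst V'.hom g ≫ o.hom)
  refine (Hpull_tr_eq_zero_iff aV g gV V.hom sq.w.symm F (n + 1) k ((EtCoh.bc g).obj V').hom (pullback.lift_snd _ _ _) ξ).1 ?_
  rw [← hx]
  exact (Hpull_eq_zero_iff k gV _ (pullback.lift_fst _ _ _) _ (n + 1) x).2
    (Hpull_comp_eq_zero (pullback.fst V'.hom g) o.hom _ rfl _ (n + 1) x hk)

end Groth.Agent.EtMemRange
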