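import Groth.Agent.EtAcycX.UnitIso
import Groth.Agent.EtMV.KillClass

/-!
Classes killed locally on the base come from the direct image.
-/

set_option autoImplicit false
set_option backward.isDefEq.respectTransparency false
set_option backward.isDefEq.respectTransparency.types false
set_option linter.unusedSectionVars false
set_option linter.auxLemma false
set_option linter.overlappingInstances false
set_option linter.style.haveILetI false
set_option maxHeartbeats 1000000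

universe w w' v v' u u'

open CategoryTheory CategoryTheory.Limits CategoryTheory.Abelian AlgebraicGeometry Opposite

noncomputable section

namespace Groth.Agent.EtMemRange

open EtMV (T T_mk₀ T_comp U U_apply U_comp_extClass shortExact_map isZero_rightDerived_X₃ injSeq injSeq_shortExact
  P σ σ_comp σ_map κ κ_comp κ_bijective δd δtop cc κ_cc κ_cc_map thin_top thin_bc toTop pc)

section Generic

variable {A : Type u} [Category.{v} A] [Abelian A] {B : Type u'} [Category.{v'} B] [Abelian B] [EnoughInjectives A]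
  {L : B ⥤ A} {R : A ⥤ B} [R.Additive] (adj : L ⊣ R) [HasExt.{w} A] [HasExt.{w'} B]
  [L.Additive] [PreservesFiniteLimits L] [PreservesFiniteColimits L]
  {P₀ : B} {Q : A} (c : Q ⟶ L.obj P₀)

/-- a degree zero class on the quotient that lifts locally gives a class of degree one in the image -/
theorem mem_range_U_one {S : ShortComplex A} (hS : S.ShortExact) (χ : P₀ ⟶ R.obj S.X₃)
    (hχ : χ ≫ cokernel.π (R.map S.g) = 0) :
    (Ext.mk₀ (c ≫ (adj.homEquiv _ _).symm χ)).comp hS.extClass rfl ∈ Set.range (U adj c S.X₁ 1) := by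
  haveI : R.IsRightAdjoint := adj.isRightAdjoint
  haveI := hS.mono_f
  have hRex : (S.map R).Exact :=
    ShortComplex.exact_of_f_is_kernel _ (KernelFork.mapIsLimit _ hS.fIsKernel R)
  haveI : Mono (R.map S.f) := inferInstance
  let πK := cokernel.π (S.map R).f
  let ιK : cokernel (S.map R).f ⟶ R.obj S.X₃ := cokernel.desc _ (S.map R).g (S.map R).zero
  haveI : Mono ιK := hRex.mono_cokernelDesc
  have hπι : πK ≫ ιK = R.map S.g := cokernel.π_desc _ _ _
  have h0 : R.map S.g ≫ cokernel.π ιK = 0 := by rw [← hπι, Category.assoc, cokernel.condition, comp_zero]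
  have h1 : χ ≫ cokernel.π ιK = 0 := by rw [← cokernel.π_desc _ _ h0, ← Category.assoc, hχ, zero_comp]
  let φ := Abelian.monoLift ιK χ h1
  have hφ : φ ≫ ιK = χ := Abelian.monoLift_comp _ _ _
  let S' : ShortComplex B := ShortComplex.mk (S.map R).f πK (cokernel.condition _)
  have hS' : S'.ShortExact :=
    { exact := ShortComplex.exact_of_g_is_cokernel _ (cokernelIsCokernel _)
      mono_f := inferInstanceAs (Mono (R.map S.f))
      epi_g := inferInstanceAs (Epi (cokernel.π _)) }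
  let m : S'.map L ⟶ S :=
    { τ₁ := adj.counit.app _
      τ₂ := adj.counit.app _
      τ₃ := L.map ιK ≫ adj.counit.app _
      comm₁₂ := (adj.counit.naturality S.f).symm
      comm₂₃ := by
        show adj.counit.app _ ≫ S.g = L.map πK ≫ L.map ιK ≫ adj.counit.app _
        rw [← L.map_comp_assoc, hπι]
        exact (adj.counit.naturality S.g).symm }
  have hn := ShortComplex.ShortExact.extClass_naturality (hS'.map_of_exact L) hS m
  refine ⟨Ext.comp (Ext.mk₀ φ) hS'.extClass rfl, ?_⟩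
  rw [U_apply]
  erw [T_comp, T_mk₀, Ext.mapExactFunctor_extClass L hS']
  rw [Ext.comp_assoc (a₂₃ := 1) _ _ _ rfl (add_zero 1) (by lia)]
  refine (congrArg (fun t => (Ext.mk₀ (c ≫ L.map φ)).comp t rfl) hn).trans ?_
  refine (Ext.comp_assoc (a₁₂ := 0) _ _ _ (add_zero 0) (zero_add 1) (by lia)).symm.trans ?_
  rw [Ext.mk₀_comp_mk₀]
  refine congrArg (fun t => (Ext.mk₀ t).comp hS.extClass rfl) ?_
  show (c ≫ L.map φ) ≫ L.map ιK ≫ adj.counit.app _ = _
  rw [← hφ, Adjunction.homEquiv_counit, L.map_comp]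
  simp only [Category.assoc]

variable [EnoughInjectives B] [R.PreservesInjectiveObjects] [IsIso c] {ι : Type*} {Ω : Type*} (Cov : ι → Ω → Prop)
  {Pk : ι → A} (kmap : ∀ i, Pk i ⟶ Q)

/-- classes killed on a covering family come from the direct image -/
theorem mem_range_U_of_killed
    (h0 : ∀ {I M : A} (g : I ⟶ M) (χ : P₀ ⟶ R.obj M),
      (∀ y, ∃ i, Cov i y ∧ ∃ t : Pk i ⟶ I, t ≫ g = kmap i ≫ c ≫ (adj.homEquiv _ _).symm χ) →
        χ ≫ cokernel.π (R.map g) = 0)
    (k : ℕ) : ∀ (G : A), (∀ q : ℕ, q < k → IsZero ((R.rightDerived (q + 1)).obj G)) →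
      ∀ x : Ext Q G (k + 1), (∀ y, ∃ i, Cov i y ∧ (Ext.mk₀ (kmap i)).comp x (zero_add (k + 1)) = 0) →
        x ∈ Set.range (U adj c G (k + 1)) := by
  induction k with
  | zero =>
    intro G _ x hx
    have hS := injSeq_shortExact G
    obtain ⟨z, rfl⟩ := Ext.covariant_sequence_exact₁ _ hS x (Ext.eq_zero_of_injective _) rfl
    obtain ⟨χ, rfl⟩ := (Ext.mk₀_bijective _ _).2 z
    obtain ⟨χ', hχ'⟩ : ∃ χ', c ≫ (adj.homEquiv _ _).symm χ' = χ :=
      ⟨adj.homEquiv _ _ (inv c ≫ χ), by rw [Equiv.symm_apply_apply, IsIso.hom_inv_id_assoc]⟩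
    subst hχ'
    refine mem_range_U_one adj c hS χ' (h0 _ χ' fun y => ?_)
    obtain ⟨i, hv, hk⟩ := hx y
    rw [Ext.mk₀_comp_mk₀_assoc] at hk
    obtain ⟨t, ht⟩ := Ext.covariant_sequence_exact₃ _ hS _ rfl hk
    obtain ⟨t₀, rfl⟩ := (Ext.mk₀_bijective _ _).2 t
    rw [Ext.mk₀_comp_mk₀] at ht
    exact ⟨i, hv, t₀, (Ext.mk₀_bijective _ _).1 ht⟩
  | succ k ih =>
    intro G hG x hx
    have hS := injSeq_shortExact G
    obtain ⟨z, rfl⟩ := Ext.covariant_sequence_exact₁ _ hS x (Ext.eq_zero_of_injective _) rfl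
    obtain ⟨z', rfl⟩ := ih _ (fun q hq => isZero_rightDerived_X₃ hS q (hG (q + 1) (Nat.succ_lt_succ hq))) z fun y => by
      obtain ⟨i, hv, hk⟩ := hx y
      rw [← Ext.comp_assoc (a₁₂ := k + 1) _ _ _ (zero_add (k + 1)) rfl
        (show 0 + (k + 1) + 1 = k + 1 + 1 by omega)] at hk
      obtain ⟨t, ht⟩ := Ext.covariant_sequence_exact₃ _ hS _ rfl hk
      exact ⟨i, hv, by rw [← ht, Ext.eq_zero_of_injective t, Ext.zero_comp]⟩
    have hR := shortExact_map adj hS (hG 0 (Nat.succ_pos k))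
    exact ⟨_, U_comp_extClass adj c hS hR rfl z'⟩

end Generic

attribute [local instance 100000] EtCoh.H._proof_1 Groth.Agent.EtMV.hext
attribute [local instance 200000] Groth.Agent.EtMV.hextAb
attribute [local instance 300000] CategoryTheory.Preadditive.preadditiveHasZeroMorphisms
  CategoryTheory.Abelian.toPreadditive

variable {W Y : Scheme.{u}} (π : W ⟶ Y)

/-- the structure class of an étale scheme -/
abbrev kk (o : W.Etale) : (P W).obj o ⟶ EtCoh.const W ℤ := (P W).map (toTop o) ≫ (EtMV.θ W).inv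

theorem Hpull_mk_eq_zero_iff {U : Scheme.{u}} (h : U ⟶ W) [Etale h] [PreservesFiniteLimits (EtCoh.pull h)]
    (G : EtCoh.Ab W) (n : ℕ) (x : Ext (EtCoh.const W ℤ) G n) :
    EtCore.Hpull h G n x = 0 ↔ (Ext.mk₀ (kk (Scheme.Etale.mk h))).comp x (zero_add n) = 0 := by
  have e : EtMV.Φe h G n ((Ext.mk₀ (kk (Scheme.Etale.mk h))).comp x (zero_add n)) = EtCore.Hpull h G n x := by
    rw [EtMV.Hpull_eq, ← Ext.mk₀_comp_mk₀_assoc]
    show T (EtCoh.pull h) (cc h (δd h)) G n _ = _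
    rw [EtMV.T_precomp]
    congr 2
    apply (κ_bijective _).1
    rw [κ_cc_map, κ_cc, ← Category.comp_id ((P W).map _), σ_map]
    exact EtMV.r_res h (δtop h) (δd h) (toTop (Scheme.Etale.mk h)) thin_top _ (EtMV.uel _)
  rw [← e]
  exact (EtMV.Φe h G n).map_eq_zero_iff

theorem Hpull_etale_eq_zero_iff (o : W.Etale) [PreservesFiniteLimits (EtCoh.pull o.hom)] (G : EtCoh.Ab W) (n : ℕ)
    (x : Ext (EtCoh.const W ℤ) G n) :
    EtCore.Hpull o.hom G n x = 0 ↔ (Ext.mk₀ (kk o)).comp x (zero_add n) = 0 := by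
  haveI : Etale o.hom := o.prop
  exact Hpull_mk_eq_zero_iff (U := o.left) o.hom G n x

/-- every class of positive degree dies locally -/
theorem exists_Hpull_eq_zero (G : EtCoh.Ab W) (n : ℕ) (x : EtCoh.H W G (n + 1)) (w : W) :
    ∃ (o : W.Etale) (v : o.left), o.hom v = w ∧ ∀ [PreservesFiniteLimits (EtCoh.pull o.hom)],
      EtCore.Hpull o.hom G (n + 1) x = 0 := by
  obtain ⟨o, h, v, hv, hk⟩ := EtMV.exists_kill n (EtCoh.top W) G ((Ext.mk₀ (EtMV.θ W).inv).comp x (zero_add _)) w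
  refine ⟨o, v, ?_, (Hpull_etale_eq_zero_iff o G (n + 1) x).2 ?_⟩
  · rw [← hv, ← MorphismProperty.Over.w h]
    rfl
  · rw [kk, ← Ext.mk₀_comp_mk₀_assoc, EtMV.hom_top_ext (toTop o) h]
    exact hk

theorem σ_kk_comp [PreservesFiniteLimits (EtCoh.pull π)] {Q : EtCoh.Ab W} (χ : EtCoh.const Y ℤ ⟶ (EtCoh.push π).obj Q)
    (V : Y.Etale) :
    σ (kk ((EtCoh.bc π).obj V) ≫ pc π ≫ ((EtCoh.pullPushAdj π).homEquiv _ _).symm χ) =
      Q.obj.map ((EtCoh.bc π).map (toTop V)).op (κ χ : EtCoh.sect ((EtCoh.push π).obj Q) (EtCoh.top Y)) := by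
  rw [kk, Category.assoc, σ_map, σ_comp, Adjunction.homEquiv_counit]
  have e₁ : (pc π ≫ (EtCoh.pull π).map χ ≫ (EtCoh.pullPushAdj π).counit.app Q).hom.app (op (EtCoh.top W))
      (EtMV.one W) = Q.obj.map (δtop π).op (κ χ : EtCoh.sect ((EtCoh.push π).obj Q) (EtCoh.top Y)) := by
    refine (EtLimit.comp_app_apply _ _ _ _).trans ?_
    erw [show (pc π).hom.app (op (EtCoh.top W)) (EtMV.one W) = EtMV.r π (δtop π) _ (EtMV.one Y) from
      EtMV.κ_pullConst π (δtop π)]
    exact EtAcycX.map_counit_r π χ (δtop π) (EtMV.one Y)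
  rw [show σ (EtMV.θ W).inv = EtMV.one W from σ.apply_symm_apply _]
  refine (congrArg (fun z => Q.obj.map (toTop ((EtCoh.bc π).obj V)).op z) e₁).trans ?_
  refine (ConcreteCategory.comp_apply _ _ _).symm.trans ?_
  rw [← Functor.map_comp, ← op_comp,
    show toTop ((EtCoh.bc π).obj V) ≫ δtop π = (EtCoh.bc π).map (toTop V) from thin_bc π thin_top _ _ _]

/-- a global section of the direct image of a quotient lifting locally -/
theorem comp_cokernel_eq_zero [PreservesFiniteLimits (EtCoh.pull π)] {I Q : EtCoh.Ab W} (g : I ⟶ Q)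
    (χ : EtCoh.const Y ℤ ⟶ (EtCoh.push π).obj Q)
    (h : ∀ y : Y, ∃ (V : Y.Etale) (v : V.left), V.hom v = y ∧ ∃ t : (P W).obj ((EtCoh.bc π).obj V) ⟶ I,
      t ≫ g = kk ((EtCoh.bc π).obj V) ≫ pc π ≫ ((EtCoh.pullPushAdj π).homEquiv _ _).symm χ) :
    χ ≫ cokernel.π ((EtCoh.push π).map g) = 0 := by
  refine (κ_bijective _).1 (EtFLC.sect_ext _ fun y => ?_)
  obtain ⟨V, v, hv, t, ht⟩ := h y
  refine ⟨V, toTop V, v, hv, ?_⟩
  let q := cokernel.π ((EtCoh.push π).map g)
  let t' : EtCoh.sect ((EtCoh.push π).obj I) V := (σ t : EtCoh.sect I ((EtCoh.bc π).obj V))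
  have e : ((EtCoh.push π).obj Q).obj.map (toTop V).op (κ χ) = ((EtCoh.push π).map g).hom.app (op V) t' :=
    (σ_kk_comp π χ V).symm.trans ((congrArg σ ht).symm.trans (σ_comp t g))
  show EtFLC.res _ (toTop V) (q.hom.app _ (κ χ)) = EtFLC.res _ (toTop V) (κ 0)
  refine Eq.trans ?_ (map_zero _).symm
  refine (NatTrans.naturality_apply q.hom (toTop V).op (κ χ)).symm.trans ?_
  refine (congrArg (q.hom.app (op V)) e).trans ?_
  refine (EtLimit.comp_app_apply _ _ _ _).symm.trans ?_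
  rw [cokernel.condition]
  rfl

theorem mem_range_U [PreservesFiniteLimits (EtCoh.pull π)] (k : ℕ) (G : EtCoh.Ab W)
    (hR : ∀ q : ℕ, q < k → IsZero ((EtCoh.Rpush π (q + 1)).obj G)) (x : Ext (EtCoh.const W ℤ) G (k + 1))
    (hx : ∀ y : Y, ∃ V : Y.Etale, (∃ v : V.left, V.hom v = y) ∧
      (Ext.mk₀ (kk ((EtCoh.bc π).obj V))).comp x (zero_add (k + 1)) = 0) :
    x ∈ Set.range (U (EtCoh.pullPushAdj π) (pc π) G (k + 1)) :=
  haveI := EtMV.push_preservesInjective π
  haveI := EtMV.isIso_pc π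
  mem_range_U_of_killed (EtCoh.pullPushAdj π) (pc π) (fun (V : Y.Etale) (y : Y) => ∃ v : V.left, V.hom v = y)
    (fun V => kk ((EtCoh.bc π).obj V))
    (fun g χ h => comp_cokernel_eq_zero π g χ fun y => by
      obtain ⟨V, ⟨v, hv⟩, ht⟩ := h y
      exact ⟨V, v, hv, ht⟩) k G hR x hx

theorem mem_range_Hpull [PreservesFiniteLimits (EtCoh.pull π)] (F : EtCoh.Ab Y) (k : ℕ)
    [IsIso ((EtCoh.pullPushAdj π).unit.app F)]
    (hR : ∀ q : ℕ, q < k → IsZero ((EtCoh.Rpush π (q + 1)).obj ((EtCoh.pull π).obj F)))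
    (ξ : EtCoh.H W ((EtCoh.pull π).obj F) (k + 1))
    (hξ : ∀ y : Y, ∃ (V : Y.Etale) (v : V.left), V.hom v = y ∧
      ∀ [PreservesFiniteLimits (EtCoh.pull ((EtCoh.bc π).obj V).hom)],
        EtCore.Hpull ((EtCoh.bc π).obj V).hom ((EtCoh.pull π).obj F) (k + 1) ξ = 0) :
    ξ ∈ Set.range (EtCore.Hpull π F (k + 1)) := by
  obtain ⟨x, hx⟩ := mem_range_U π k _ hR ξ fun y => by
    obtain ⟨V, v, hv, hk⟩ := hξ y
    haveI := EtCohDesc.pull_preservesFiniteLimits ((EtCoh.bc π).obj V).hom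
    exact ⟨V, ⟨v, hv⟩, (Hpull_etale_eq_zero_iff _ _ _ ξ).1 hk⟩
  obtain ⟨x₀, rfl⟩ := (EtAcycX.bijective_comp_iso (X := EtCoh.const Y ℤ)
    ((EtCoh.pullPushAdj π).unit.app F) (k + 1)).2 x
  refine ⟨x₀, Eq.trans ?_ hx⟩
  refine (EtAcycX.Hpull_apply π F (k + 1) x₀).trans ?_
  refine ((EtMV.T_apply (F := EtCoh.pull π) (pc π) F (k + 1) x₀).symm.trans ?_)
  exact (EtMV.U_unit π F (k + 1) x₀).symm

end Groth.Agent.EtMemRange
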